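import Groth.Prelude.Def_LieS
import Mathlib.AlgebraicGeometry.Morphisms.Affine
import Mathlib.AlgebraicGeometry.Cover.Open

/-!
# Morphisms out of dual numbers are determined along injective homeomorphic ring maps; addition in `LieS.Lie`
-/

universe u

open CategoryTheory AlgebraicGeometry

namespace Groth.LieSBasic

section away

variable {R S : Type u} [CommRing R] [CommRing S] (φ : R →+* S) (a : R)

theorem away_sq :
    (Localization.awayMap φ a).comp (algebraMap R (Localization.Away a)) =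
      (algebraMap S (Localization.Away (φ a))).comp φ :=
  RingHom.ext fun r => by simp [Localization.awayMap, IsLocalization.Away.map]

theorem spec_away_sq :
    Spec.map (CommRingCat.ofHom (Localization.awayMap φ a)) ≫
        Spec.map (CommRingCat.ofHom (algebraMap R (Localization.Away a))) =
      Spec.map (CommRingCat.ofHom (algebraMap S (Localization.Away (φ a)))) ≫
        Spec.map (CommRingCat.ofHom φ) := by
  rw [← Spec.map_comp, ← Spec.map_comp, ← CommRingCat.ofHom_comp, ← CommRingCat.ofHom_comp, away_sq]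

end away

theorem awayMap_jointly_injective {R S₁ S₂ : Type u} [CommRing R] [CommRing S₁] [CommRing S₂]
    (φ₁ : R →+* S₁) (φ₂ : R →+* S₂) (hinj : ∀ x, φ₁ x = 0 → φ₂ x = 0 → x = 0) (a : R)
    {x y : Localization.Away a} (h₁ : Localization.awayMap φ₁ a x = Localization.awayMap φ₁ a y)
    (h₂ : Localization.awayMap φ₂ a x = Localization.awayMap φ₂ a y) : x = y := by
  rw [← sub_eq_zero]
  rw [← sub_eq_zero, ← map_sub] at h₁ h₂
  generalize x - y = z at h₁ h₂ ⊢
  obtain ⟨r, s, rfl⟩ := IsLocalization.exists_mk'_eq (Submonoid.powers a) z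
  rw [Localization.awayMap, IsLocalization.Away.map, IsLocalization.map_mk',
    IsLocalization.mk'_eq_zero_iff] at h₁ h₂
  obtain ⟨⟨_, n₁, rfl⟩, e₁⟩ := h₁
  obtain ⟨⟨_, n₂, rfl⟩, e₂⟩ := h₂
  refine (IsLocalization.mk'_eq_zero_iff _ _).2 ⟨⟨a ^ (n₁ + n₂), n₁ + n₂, rfl⟩, hinj _ ?_ ?_⟩
  · simp only at e₁ ⊢
    rw [map_mul, map_pow, pow_add, mul_right_comm, e₁, zero_mul]
  · simp only at e₂ ⊢
    rw [map_mul, map_pow, pow_add, mul_assoc, e₂, mul_zero]

/-- Morphisms out of `Spec R` agree if they agree on two jointly injective `Spec Sᵢ`, the first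
surjective on points. -/
theorem hom_eq_of_jointly_injective {R S₁ S₂ : Type u} [CommRing R] [CommRing S₁] [CommRing S₂]
    (φ₁ : R →+* S₁) (φ₂ : R →+* S₂) (hinj : ∀ x, φ₁ x = 0 → φ₂ x = 0 → x = 0)
    (hsurj : Function.Surjective (PrimeSpectrum.comap φ₁)) {X : Scheme.{u}}
    (g h : Spec (CommRingCat.of R) ⟶ X)
    (h₁ : Spec.map (CommRingCat.ofHom φ₁) ≫ g = Spec.map (CommRingCat.ofHom φ₁) ≫ h)
    (h₂ : Spec.map (CommRingCat.ofHom φ₂) ≫ g = Spec.map (CommRingCat.ofHom φ₂) ≫ h) : g = h := by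
  have hpt : ∀ p, g p = h p := by
    intro p
    obtain ⟨q, rfl⟩ := hsurj p
    exact congrArg (fun k => k q) h₁
  let ι := {a : R // ∃ U : X.Opens, IsAffineOpen U ∧ PrimeSpectrum.basicOpen a ≤ g ⁻¹ᵁ U}
  have hspan : Ideal.span (Set.range (Subtype.val : ι → R)) = ⊤ := by
    by_contra hne
    obtain ⟨m, hm, hle⟩ := Ideal.exists_le_maximal _ hne
    let p : PrimeSpectrum R := ⟨m, hm.isPrime⟩
    obtain ⟨_, ⟨U, hU, rfl⟩, hpU, -⟩ := X.isBasis_affineOpens.exists_subset_of_mem_open
      (Set.mem_univ (g p)) isOpen_univ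
    have hop : IsOpen {q : PrimeSpectrum R | g q ∈ U} := (g ⁻¹ᵁ U).2
    obtain ⟨_, ⟨a, rfl⟩, hpa, haU⟩ := PrimeSpectrum.isTopologicalBasis_basic_opens.exists_subset_of_mem_open
      (show p ∈ {q : PrimeSpectrum R | g q ∈ U} from hpU) hop
    exact hpa (hle (Ideal.subset_span ⟨⟨a, U, hU, haU⟩, rfl⟩))
  refine ((Scheme.affineOpenCoverOfSpanRangeEqTop (R := CommRingCat.of R) (Subtype.val : ι → R) hspan).openCover).hom_ext
    g h ?_
  rintro ⟨a, U, hU, haU⟩
  let A := Spec.map (CommRingCat.ofHom (algebraMap R (Localization.Away a)))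
  show A ≫ g = A ≫ h
  have hA : ∀ q, g (A q) ∈ U := fun q => haU (by
    have h0 : PrimeSpectrum.comap (algebraMap R (Localization.Away a)) q ∈
        Set.range (PrimeSpectrum.comap (algebraMap R (Localization.Away a))) := ⟨q, rfl⟩
    rw [PrimeSpectrum.localization_away_comap_range (Localization.Away a) a] at h0
    exact h0)
  have hg : Set.range (A ≫ g) ⊆ Set.range U.ι := by
    rw [Scheme.Opens.range_ι]; rintro _ ⟨q, rfl⟩; exact hA q
  have hh : Set.range (A ≫ h) ⊆ Set.range U.ι := by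
    rw [Scheme.Opens.range_ι]; rintro _ ⟨q, rfl⟩
    show h (A q) ∈ U
    rw [← hpt]; exact hA q
  let gU := IsOpenImmersion.lift U.ι (A ≫ g) hg
  let hU' := IsOpenImmersion.lift U.ι (A ≫ h) hh
  rw [← IsOpenImmersion.lift_fac U.ι (A ≫ g) hg, ← IsOpenImmersion.lift_fac U.ι (A ≫ h) hh]
  congr 1
  rw [← cancel_mono hU.isoSpec.hom, ← Spec.map_preimage (IsOpenImmersion.lift U.ι (A ≫ g) hg ≫ hU.isoSpec.hom),
    ← Spec.map_preimage (IsOpenImmersion.lift U.ι (A ≫ h) hh ≫ hU.isoSpec.hom)]
  congr 1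
  have key : ∀ {S : Type u} [CommRing S] (φ : R →+* S),
      Spec.map (CommRingCat.ofHom φ) ≫ g = Spec.map (CommRingCat.ofHom φ) ≫ h →
      Spec.preimage (gU ≫ hU.isoSpec.hom) ≫ CommRingCat.ofHom (Localization.awayMap φ a) =
        Spec.preimage (hU' ≫ hU.isoSpec.hom) ≫ CommRingCat.ofHom (Localization.awayMap φ a) := by
    intro S _ φ e
    apply Spec.map_injective
    rw [Spec.map_comp, Spec.map_comp, Spec.map_preimage, Spec.map_preimage, ← Category.assoc,
      ← Category.assoc]
    congr 1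
    rw [← cancel_mono U.ι, Category.assoc, Category.assoc, IsOpenImmersion.lift_fac,
      IsOpenImmersion.lift_fac, ← Category.assoc, ← Category.assoc, spec_away_sq, Category.assoc,
      Category.assoc, e]
  refine CommRingCat.hom_ext (RingHom.ext fun x => awayMap_jointly_injective φ₁ φ₂ hinj a
    (congrArg (fun k => k.hom x) (key φ₁ h₁)) (congrArg (fun k => k.hom x) (key φ₂ h₂)))

section lie

open TrivSqZeroExt MonObj

variable {B : Type u} [CommRing B]

theorem surjective_comap_of_section {R : Type u} [CommRing R] (φ : R →+* B) (i : B →+* R)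
    (hi : ∀ r, IsNilpotent (r - i (φ r))) : Function.Surjective (PrimeSpectrum.comap φ) := by
  intro p
  refine ⟨PrimeSpectrum.comap i p, PrimeSpectrum.ext (Ideal.ext fun r => ?_)⟩
  show i (φ r) ∈ p.asIdeal ↔ r ∈ p.asIdeal
  have hmem : r - i (φ r) ∈ p.asIdeal := by
    obtain ⟨n, hn⟩ := hi r
    exact p.isPrime.mem_of_pow_mem n (hn.symm ▸ zero_mem _)
  exact ⟨fun h => by simpa using add_mem hmem h, fun h => by simpa using sub_mem h hmem⟩

theorem mulHom_eq (x : DualNumber B) :
    LieS.mulHom B x = inl (inl x.fst) + inr (inr x.snd) := by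
  refine TrivSqZeroExt.ext ?_ ?_ <;> refine TrivSqZeroExt.ext ?_ ?_ <;>
    simp [LieS.mulHom, LieS.toD2, algebraMap_eq_inl']

theorem surjective_comap_dual {S : Type u} [CommRing S] (φ : DualNumber B →+* S) (π : S →+* B)
    (h : π.comp φ = (fstHom B B B).toRingHom) : Function.Surjective (PrimeSpectrum.comap φ) := by
  intro p
  obtain ⟨q, rfl⟩ := surjective_comap_of_section (fstHom B B B).toRingHom (algebraMap B (DualNumber B))
    (fun r => ⟨2, by
      refine TrivSqZeroExt.ext ?_ ?_ <;> simp [pow_two, algebraMap_eq_inl']⟩) p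
  exact ⟨PrimeSpectrum.comap π q, by rw [← PrimeSpectrum.comap_comp_apply, h]⟩

variable {S : Scheme.{u}} (G : Over S) [GrpObj G] (f : Spec (CommRingCat.of B) ⟶ S)

variable (B) in
theorem mulHom_injective : Function.Injective (LieS.mulHom B) := by
  intro x y h
  rw [mulHom_eq, mulHom_eq] at h
  refine TrivSqZeroExt.ext ?_ ?_
  · simpa using congrArg (fun z : LieS.D2 B => z.fst.fst) h
  · simpa using congrArg (fun z : LieS.D2 B => z.snd.snd) h

variable (B) in
theorem surjective_comap_mulHom :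
    Function.Surjective (PrimeSpectrum.comap (R := DualNumber B) (S := LieS.D2 B) (LieS.mulHom B)) := by
  refine surjective_comap_dual _ ((fstHom B B B).toRingHom.comp
    (fstHom (DualNumber B) (DualNumber B) (DualNumber B)).toRingHom) (RingHom.ext fun x => ?_)
  simp [LieS.mulHom, LieS.toD2, algebraMap_eq_inl']

/-- One-map version of `hom_eq_of_jointly_injective`. -/
theorem hom_eq_of_injective {R T : Type u} [CommRing R] [CommRing T] (φ : R →+* T)
    (hinj : Function.Injective φ) (hsurj : Function.Surjective (PrimeSpectrum.comap φ)) {X : Scheme.{u}}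
    (g h : Spec (CommRingCat.of R) ⟶ X)
    (e : Spec.map (CommRingCat.ofHom φ) ≫ g = Spec.map (CommRingCat.ofHom φ) ≫ h) : g = h :=
  hom_eq_of_jointly_injective φ φ (fun x hx _ => hinj (hx.trans (map_zero _).symm)) hsurj g h e e

variable (B) in
theorem epi_mulMap : Epi (LieS.mulMap B f) := by
  constructor
  intro Z g h e
  apply Over.OverMorphism.ext
  have key := hom_eq_of_injective (R := DualNumber B) (T := LieS.D2 B) (LieS.mulHom B)
    (mulHom_injective B) (surjective_comap_mulHom B) (X := Z.left)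
  apply key
  exact congrArg (fun k => k.left) e

variable (B) in
/-- `B ⊕ Bε₁ ⊕ Bε₂` -/
abbrev E2 : Type u := TrivSqZeroExt B (B × B)

variable (B) in
/-- The scheme `Spec B[ε₁, ε₂]` over `S`. -/
noncomputable def ept : Over S := Over.mk (Spec.map (CommRingCat.ofHom (algebraMap B (E2 B))) ≫ f)

/-- `ε ↦ v.1 ε₁ + v.2 ε₂` -/
noncomputable def inMap (v : B × B) : ept B f ⟶ LieS.dpt B f :=
  Over.homMk (Spec.map (CommRingCat.ofHom
    (LieS.dualHom (algebraMap B (E2 B)) (inr v) (inr_mul_inr B v v)))) (by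
    change Spec.map _ ≫ Spec.map _ ≫ f = Spec.map _ ≫ f
    rw [← Category.assoc, LieS.specMap_comp, LieS.dualHom_comp_algebraMap])

/-- `ε₁ ↦ a ε`, `ε₂ ↦ b ε` -/
noncomputable def outMap (a b : B) : LieS.dpt B f ⟶ ept B f :=
  Over.homMk (Spec.map (CommRingCat.ofHom
    (TrivSqZeroExt.map (R' := B) (a • LinearMap.fst B B B + b • LinearMap.snd B B B)).toRingHom)) (by
    change Spec.map _ ≫ Spec.map _ ≫ f = Spec.map _ ≫ f
    rw [← Category.assoc, LieS.specMap_comp]
    refine congrArg (fun k => Spec.map (CommRingCat.ofHom k) ≫ f) (RingHom.ext fun x => ?_)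
    simp [algebraMap_eq_inl'])

theorem outMap_inMap (a b : B) (v : B × B) :
    outMap f a b ≫ inMap f v = LieS.scale B f (a * v.1 + b * v.2) := by
  apply Over.OverMorphism.ext
  change Spec.map _ ≫ Spec.map _ = Spec.map _
  rw [LieS.specMap_comp]
  refine congrArg (fun k => Spec.map (CommRingCat.ofHom k)) (RingHom.ext fun x => ?_)
  refine TrivSqZeroExt.ext ?_ ?_ <;> simp [LieS.scaleHom, algebraMap_eq_inl'] <;> ring

theorem scale_one : LieS.scale B f 1 = 𝟙 _ := by
  apply Over.OverMorphism.ext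
  change Spec.map _ = 𝟙 _
  have h : LieS.scaleHom (1 : B) = RingHom.id _ := by
    ext x <;> simp [LieS.scaleHom, algebraMap_eq_inl']
  rw [h, CommRingCat.ofHom_id]
  exact Spec.map_id _

theorem scale_zero : LieS.scale B f 0 = LieS.proj B f ≫ LieS.zeroSec B f := by
  apply Over.OverMorphism.ext
  change Spec.map _ = Spec.map _ ≫ Spec.map _
  rw [LieS.specMap_comp]
  refine congrArg (fun k => Spec.map (CommRingCat.ofHom k)) (RingHom.ext fun x => ?_)
  refine TrivSqZeroExt.ext ?_ ?_ <;> simp [LieS.scaleHom, algebraMap_eq_inl']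

theorem comp_mul {X Y : Over S} (g : X ⟶ Y) (a b : Y ⟶ G) : g ≫ (a * b) = (g ≫ a) * (g ≫ b) :=
  ((yonedaGrpObj G).map g.op).hom.map_mul a b

theorem comp_one' {X Y : Over S} (g : X ⟶ Y) : g ≫ (1 : Y ⟶ G) = 1 :=
  ((yonedaGrpObj G).map g.op).hom.map_one

theorem one_smul' (v : LieS.Lie G B f) : (1 : B) • v = v := by
  apply Subtype.ext
  rw [LieS.smul_val, scale_one, Category.id_comp]

theorem scale_zero_comp (v : LieS.Lie G B f) : LieS.scale B f 0 ≫ v.1 = 1 := by
  rw [scale_zero, Category.assoc, (LieS.mem_Lie_iff G B f v.1).1 v.2, comp_one']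

theorem smul_mul_smul' (a b : B) (v : LieS.Lie G B f) : (a • v) * (b • v) = (a + b) • v := by
  have hw : (inMap f (1, 0) ≫ v.1) * (inMap f (0, 1) ≫ v.1) = inMap f (1, 1) ≫ v.1 := by
    have hax : ∀ a b : B, (a = 1 ∧ b = 0) ∨ (a = 0 ∧ b = 1) →
        outMap f a b ≫ ((inMap f (1, 0) ≫ v.1) * (inMap f (0, 1) ≫ v.1)) =
          outMap f a b ≫ inMap f (1, 1) ≫ v.1 := by
      rintro a b (⟨rfl, rfl⟩ | ⟨rfl, rfl⟩) <;>
      · simp only [comp_mul, ← Category.assoc, outMap_inMap, mul_zero, add_zero, zero_add,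
          scale_zero_comp, scale_one, Category.id_comp, _root_.mul_one, _root_.one_mul]
    apply Over.OverMorphism.ext
    refine hom_eq_of_jointly_injective (R := E2 B) _ _ (fun x h1 h2 => ?_) ?_ _ _
      (congrArg (fun k => k.left) (hax 1 0 (Or.inl ⟨rfl, rfl⟩)))
      (congrArg (fun k => k.left) (hax 0 1 (Or.inr ⟨rfl, rfl⟩)))
    · refine TrivSqZeroExt.ext ?_ (Prod.ext ?_ ?_)
      · simpa using congrArg fst h1
      · simpa using congrArg snd h1
      · simpa using congrArg snd h2
    · intro p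
      obtain ⟨q, rfl⟩ := surjective_comap_of_section (fstHom B B (B × B)).toRingHom (algebraMap B (E2 B))
        (fun r => ⟨2, by
          refine TrivSqZeroExt.ext ?_ ?_ <;> simp [pow_two, algebraMap_eq_inl']⟩) p
      refine ⟨PrimeSpectrum.comap (fstHom B B B).toRingHom q, ?_⟩
      rw [← PrimeSpectrum.comap_comp_apply]
      congr 1
      ext x
      simp
  have h3 := congrArg (fun w => outMap f a b ≫ w) hw
  simp only [comp_mul, ← Category.assoc, outMap_inMap, _root_.mul_one, mul_zero, add_zero, zero_add] at h3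
  exact Subtype.ext (by simpa only [LieS.smul_val, Subgroup.coe_mul] using h3)

theorem zpow_eq_smul (v : LieS.Lie G B f) (n : ℤ) : v ^ n = ((n : B) • v : LieS.Lie G B f) := by
  let φ : Multiplicative B →* LieS.Lie G B f :=
    MonoidHom.mk' (fun b => b.toAdd • v) fun a b => (smul_mul_smul' G f a.toAdd b.toAdd v).symm
  have h := map_zpow φ (Multiplicative.ofAdd (1 : B)) n
  have e : Multiplicative.ofAdd (1 : B) ^ n = Multiplicative.ofAdd (n : B) := by
    rw [← ofAdd_zsmul, zsmul_one]
  rw [e] at h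
  simpa [φ, one_smul'] using h.symm

end lie

end Groth.LieSBasic
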